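import Cfsg.Agent.Lib.Block2.Wed
import Cfsg.Agent.Lib.Block2.PiKer
import Cfsg.Agent.Lib.Char.Kernel

/-! The principal projective indecomposable character and a bound for its norm. -/

set_option autoImplicit false
set_option linter.dupNamespace false
set_option linter.unusedSectionVars false

open Cfsg Cfsg.Lib.Block Cfsg.Lib.Block2 Cfsg.Lib.Char MonoidAlgebra Subgroup
open scoped ComplexConjugate

namespace Cfsg.Lib.FrC

variable {G : Type*} [Group G] [Fintype G] {p : ℕ} {M : Ideal AlgInt} [M.IsMaximal]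

/-- The trivial character. -/
def one' (G : Type*) [Group G] : IrrCharacter G := ⟨fun _ => 1, isIrrCharacter_one⟩

theorem exists_triv (W : Wed M G) : ∃ s, W.dec (one' G) s = 1 ∧ ∀ t, t ≠ s → W.dec (one' G) t = 0 := by
  classical
  obtain ⟨m, hm, h⟩ := W.exists_deg
  have h1 := h (one' G)
  have h2 : charDegree (one' G).1 = 1 := by simp [charDegree, one']
  rw [h2] at h1
  obtain ⟨s, hs⟩ := W.exists_dec_ne_zero' (one' G)
  have h3 := Finset.add_sum_erase Finset.univ (fun s => m s * W.dec (one' G) s) (Finset.mem_univ s)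
  have h4 : 1 ≤ m s * W.dec (one' G) s := Nat.one_le_iff_ne_zero.2 (mul_ne_zero (hm s) hs)
  have h5 : m s * W.dec (one' G) s = 1 := by omega
  have h6 : ∑ t ∈ Finset.univ.erase s, m t * W.dec (one' G) t = 0 := by omega
  refine ⟨s, Nat.eq_one_of_mul_eq_one_left h5, fun t ht => ?_⟩
  have := Finset.sum_eq_zero_iff.1 h6 t (Finset.mem_erase.2 ⟨ht, Finset.mem_univ t⟩)
  exact (mul_eq_zero.1 this).resolve_left (hm t)

theorem dec_le (hM : IsPModular p M) (W : Wed M G) {s : Fin W.n}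
    (h0 : ∀ t, t ≠ s → W.dec (one' G) t = 0) {Q : Subgroup G} (hQ : ¬ p ∣ Nat.card Q) :
    ∃ n : IrrCharacter G → ℕ, ∀ χ, charExt χ.1 (avgN Q) = n χ ∧ W.dec χ s ≤ n χ := by
  classical
  obtain ⟨m, -, h⟩ := W.exists_decomp (isInt_avgN hM hQ) (avgN_mul_avgN le_rfl)
  have hms : m s ≠ 0 := by
    intro hs
    have h1 := h (one' G).1 (one' G).2.isClassFunction
    haveI := Fintype.ofFinite Q
    rw [charExt_avgN] at h1
    have h2 : ∑ t, (m t : ℂ) * charExt (one' G).1 (W.i t) = 0 := by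
      refine Finset.sum_eq_zero fun t _ => ?_
      rw [W.charExt_i]
      by_cases ht : t = s
      · rw [ht, hs]; simp
      · rw [h0 t ht]; simp
    rw [h2] at h1
    simp [one', ← Nat.card_eq_fintype_card] at h1
  refine ⟨fun χ => ∑ t, m t * W.dec χ t, fun χ => ⟨?_, ?_⟩⟩
  · rw [h χ.1 χ.2.isClassFunction]
    push_cast
    exact Finset.sum_congr rfl fun t _ => by rw [W.charExt_i]
  · calc W.dec χ s ≤ m s * W.dec χ s := Nat.le_mul_of_pos_left _ (Nat.pos_of_ne_zero hms)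
      _ ≤ _ := Finset.single_le_sum (f := fun t => m t * W.dec χ t) (fun _ _ => Nat.zero_le _)
        (Finset.mem_univ s)

theorem sum_avg {Q R : Subgroup G} (h : (Nat.card Q).Coprime (Nat.card R)) :
    ∑ χ : IrrCharacter G, charExt χ.1 (avgN R) * charExt χ.1 (avgN Q) =
      (Nat.card Q : ℂ)⁻¹ * ((Nat.card R : ℂ)⁻¹ * Nat.card G) := by
  classical
  haveI := Fintype.ofFinite Q
  have h1 : charExt (pchar (avgN R)) (avgN Q) =
      ∑ χ : IrrCharacter G, charExt χ.1 (avgN R) * charExt χ.1 (avgN Q) := by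
    rw [pchar_eq_sum, charExt_sum]
    exact Finset.sum_congr rfl fun χ _ => charExt_smul _ _ _
  rw [← h1, charExt_avgN]
  congr 1
  rw [Finset.sum_eq_single (1 : Q)]
  · rw [pchar_apply]
    simp [coeff_avgN_of_mem R.one_mem, mul_comm]
  · intro x _ hx
    rw [pchar_apply]
    refine Finset.sum_eq_zero fun y _ => coeff_avgN_of_notMem fun hy => hx ?_
    have h2 : orderOf (y * (x : G)⁻¹ * y⁻¹) ∣ Nat.card R := R.orderOf_dvd_natCard hy
    have h3 : orderOf (y * (x : G)⁻¹ * y⁻¹) = orderOf x := by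
      rw [← MulAut.conj_apply, MulEquiv.orderOf_eq, orderOf_inv, Subgroup.orderOf_coe]
    rw [h3] at h2
    exact orderOf_eq_one_iff.1 (Nat.eq_one_of_dvd_coprimes h (orderOf_dvd_natCard x) h2)
  · simp

/-- The principal projective indecomposable character. -/
theorem exists_pim (hp : p.Prime) : ∃ Φ : G → ℂ, IsCharacter G Φ ∧ (∀ g, p ∣ orderOf g → Φ g = 0) ∧
    ∑ g, Φ g = Nat.card G ∧ ∀ Q R : Subgroup G, ¬ p ∣ Nat.card Q → ¬ p ∣ Nat.card R →
      (Nat.card Q).Coprime (Nat.card R) →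
        (∑ g, ‖Φ g‖ ^ 2) * (Nat.card Q * Nat.card R) ≤ (Nat.card G : ℝ) ^ 2 := by
  classical
  haveI : Fact p.Prime := ⟨hp⟩
  obtain ⟨M, hM⟩ := exists_isPModular hp
  haveI := hM.2.1
  obtain ⟨W⟩ := nonempty_wed M G
  obtain ⟨s, hs, h0⟩ := exists_triv W
  have hΦ : pchar (W.i s) = ∑ χ : IrrCharacter G, (W.dec χ s : ℂ) • χ.1 := by
    rw [pchar_eq_sum]
    exact Finset.sum_congr rfl fun χ _ => by rw [W.charExt_i]
  have hG := card_ne_zero G
  refine ⟨pchar (W.i s), hΦ ▸ isCharacter_sum_irr _,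
    fun g hg => pchar_eq_zero hM (W.isInt_i s) (W.i_mul_i s) hg, ?_, fun Q R hQ hR hQR => ?_⟩
  · have h1 := classInner_sum_irr (fun χ => (W.dec χ s : ℂ)) (one' G)
    rw [← hΦ, hs] at h1
    simp only [classInner, one', map_one, mul_one, Nat.cast_one] at h1
    field_simp at h1
    exact h1
  · obtain ⟨n, hn⟩ := dec_le hM W h0 hQ
    obtain ⟨n', hn'⟩ := dec_le hM W h0 hR
    have h1 := sum_avg hQR
    have h2 := classInner_sum_irr_sum_irr (fun χ => (W.dec χ s : ℂ)) (fun χ => (W.dec χ s : ℂ))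
    rw [← hΦ] at h2
    simp only [classInner, Complex.mul_conj, map_natCast, Complex.normSq_eq_norm_sq] at h2
    simp only [fun χ => (hn χ).1, fun χ => (hn' χ).1] at h1
    have hQ0 := card_ne_zero Q
    have hR0 := card_ne_zero R
    field_simp at h1 h2
    have h1' : (∑ χ : IrrCharacter G, n' χ * n χ) * Nat.card Q * Nat.card R = Nat.card G := by
      exact_mod_cast h1
    have h2' : ∑ g, ‖pchar (W.i s) g‖ ^ 2 =
        (Nat.card G : ℝ) * ((∑ χ : IrrCharacter G, W.dec χ s ^ 2 : ℕ) : ℝ) := by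
      exact_mod_cast h2
    have h3 : ∑ χ : IrrCharacter G, W.dec χ s ^ 2 ≤ ∑ χ : IrrCharacter G, n' χ * n χ :=
      Finset.sum_le_sum fun χ _ => by rw [sq]; exact Nat.mul_le_mul (hn' χ).2 (hn χ).2
    rw [h2']
    have h4 : (∑ χ : IrrCharacter G, W.dec χ s ^ 2) * (Nat.card Q * Nat.card R) ≤ Nat.card G := by
      rw [← h1', mul_assoc]; exact Nat.mul_le_mul_right _ h3
    have h5 : ((∑ χ : IrrCharacter G, W.dec χ s ^ 2 : ℕ) : ℝ) * (Nat.card Q * Nat.card R) ≤
      Nat.card G := by exact_mod_cast h4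
    rw [mul_assoc, sq]
    exact mul_le_mul_of_nonneg_left h5 (Nat.cast_nonneg _)

/-- If the number of `p`-regular elements is `|Q| |R|`, they form a normal subgroup. -/
theorem exists_normal (hp : p.Prime) {Q R : Subgroup G} (hQ : ¬ p ∣ Nat.card Q) (hR : ¬ p ∣ Nat.card R)
    (hQR : (Nat.card Q).Coprime (Nat.card R))
    (hc : Nat.card {g : G // ¬ p ∣ orderOf g} = Nat.card Q * Nat.card R) :
    ∃ N : Subgroup G, N.Normal ∧ Nat.card N = Nat.card Q * Nat.card R := by
  classical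
  obtain ⟨Φ, hΦ, h0, h1, h2⟩ := exists_pim (G := G) hp
  have h3 := h2 Q R hQ hR hQR
  set m : ℝ := Nat.card Q * Nat.card R with hm
  have hm0 : 0 < m := mul_pos (by exact_mod_cast Nat.card_pos) (by exact_mod_cast Nat.card_pos)
  set S := Finset.univ.filter fun g : G => ¬ p ∣ orderOf g with hS
  have hSc : (S.card : ℝ) = m := by
    rw [hm, ← Nat.cast_mul, ← hc, Nat.card_eq_fintype_card, Fintype.card_subtype]
  set c : ℝ := Nat.card G / m with hc'
  have hs1 : ∑ g ∈ S, (Φ g).re = Nat.card G := by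
    have := congrArg Complex.re h1
    rw [Complex.re_sum, Complex.natCast_re] at this
    rw [← this, hS, Finset.sum_filter]
    refine Finset.sum_congr rfl fun g _ => ?_
    by_cases hg : p ∣ orderOf g
    · simp [hg, h0 g hg]
    · simp [hg]
  have hs2 : ∑ g ∈ S, ‖Φ g‖ ^ 2 ≤ ∑ g, ‖Φ g‖ ^ 2 :=
    Finset.sum_le_sum_of_subset_of_nonneg (Finset.subset_univ _) fun _ _ _ => by positivity
  have hs3 : ∑ g ∈ S, ‖Φ g - c‖ ^ 2 ≤ 0 := by
    have e : ∀ g, ‖Φ g - c‖ ^ 2 = ‖Φ g‖ ^ 2 - 2 * c * (Φ g).re + c ^ 2 := fun g => by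
      rw [← Complex.normSq_eq_norm_sq, ← Complex.normSq_eq_norm_sq, Complex.normSq_apply,
        Complex.normSq_apply]
      simp; ring
    simp only [e, Finset.sum_add_distrib, Finset.sum_sub_distrib, ← Finset.mul_sum, hs1,
      Finset.sum_const, nsmul_eq_mul, hSc]
    have h4 : ∑ g, ‖Φ g‖ ^ 2 ≤ (Nat.card G : ℝ) ^ 2 / m := by rwa [le_div_iff₀ hm0]
    have h5 : (Nat.card G : ℝ) ^ 2 / m - 2 * c * Nat.card G + m * c ^ 2 = 0 := by
      rw [hc']; field_simp; ring
    linarith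
  have hs4 : ∀ g, ¬ p ∣ orderOf g → Φ g = c := fun g hg => by
    have := (Finset.sum_eq_zero_iff_of_nonneg fun g _ => by positivity).1
      (le_antisymm hs3 (Finset.sum_nonneg fun g _ => by positivity)) g (by simp [hS, hg])
    exact sub_eq_zero.1 (by simpa using this)
  have h1' : Φ 1 = c := hs4 1 (by simpa using hp.one_lt.ne')
  have hc0 : (c : ℂ) ≠ 0 := by
    have : 0 < c := div_pos (by exact_mod_cast Nat.card_pos) hm0
    exact_mod_cast this.ne'
  refine ⟨charKer Φ, hΦ.charKer_normal, ?_⟩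
  rw [← hc]
  refine Nat.card_congr (Equiv.subtypeEquivRight fun g => ?_)
  rw [hΦ.mem_charKer, h1']
  exact ⟨fun h hg => hc0 (h ▸ h0 g hg), hs4 g⟩

end Cfsg.Lib.FrC
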